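import Mathlib.RingTheory.MvPolynomial.Groebner
import Mathlib.RingTheory.Ideal.Span

/-!
Gröbner bases for families of polynomials with pairwise disjoint leading monomials.
-/

namespace Groth.Agent.Lie3Mod

open MvPolynomial MonomialOrder

variable {σ : Type*} (m : MonomialOrder σ) {A : Type*} [CommRing A]

/-- A set of polynomials with unit leading coefficients such that the leading monomial of every
nonzero element of the ideal is divisible by one of the leading monomials of the set. -/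
def IsGB (B : Set (MvPolynomial σ A)) : Prop :=
  (∀ b ∈ B, IsUnit (m.leadingCoeff b)) ∧
    ∀ f ∈ Ideal.span B, f ≠ 0 → ∃ b ∈ B, m.degree b ≤ m.degree f

lemma isGB_empty : IsGB m (∅ : Set (MvPolynomial σ A)) := by
  refine ⟨fun b hb => absurd hb (Set.notMem_empty b), fun f hf h0 => ?_⟩
  simp at hf
  exact absurd hf h0

/-- `q` has unit leading coefficient and a leading monomial disjoint from those of `B`. -/
structure Coprime (B : Set (MvPolynomial σ A)) (q : MvPolynomial σ A) : Prop where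
  unit : IsUnit (m.leadingCoeff q)
  disj : ∀ b ∈ B, ∀ s, m.degree b s = 0 ∨ m.degree q s = 0

lemma Coprime.le_of_le_add {B : Set (MvPolynomial σ A)} {q b : MvPolynomial σ A}
    (h : Coprime m B q) (hb : b ∈ B) {c : σ →₀ ℕ} (hle : m.degree b ≤ c + m.degree q) :
    m.degree b ≤ c := by
  intro s
  have := hle s
  rcases h.disj b hb s with h' | h' <;> simp_all

/-- reduced remainder -/
lemma exists_reduced {B : Set (MvPolynomial σ A)} (hB : ∀ b ∈ B, IsUnit (m.leadingCoeff b))
    (f : MvPolynomial σ A) :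
    ∃ r, f - r ∈ Ideal.span B ∧ (r ≠ 0 → ∀ b ∈ B, ¬ m.degree b ≤ m.degree r) := by
  obtain ⟨g, r, hfr, -, hr⟩ := m.div_set hB f
  refine ⟨r, ?_, fun h0 b hb => hr _ (m.degree_mem_support h0) b hb⟩
  rw [hfr, add_sub_cancel_right, Finsupp.linearCombination_apply]
  exact Ideal.sum_mem _ fun b _ => Ideal.mul_mem_left _ _ (Ideal.subset_span b.2)

lemma IsGB.mem_iff {B : Set (MvPolynomial σ A)} (hB : IsGB m B) {f r : MvPolynomial σ A}
    (h : f - r ∈ Ideal.span B) (hr : r ≠ 0 → ∀ b ∈ B, ¬ m.degree b ≤ m.degree r) :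
    f ∈ Ideal.span B ↔ r = 0 := by
  constructor
  · intro hf
    by_contra h0
    have : r ∈ Ideal.span B := by simpa using sub_mem hf h
    obtain ⟨b, hb, hle⟩ := hB.2 r this h0
    exact hr h0 b hb hle
  · rintro rfl
    simpa using h

/-- An element with coprime leading monomial is a non-zero-divisor modulo the ideal. -/
lemma IsGB.mem_of_mul_mem {B : Set (MvPolynomial σ A)} (hB : IsGB m B) {q h : MvPolynomial σ A}
    (hq : Coprime m B q) (hmem : h * q ∈ Ideal.span B) : h ∈ Ideal.span B := by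
  obtain ⟨r, hsub, hr⟩ := exists_reduced m hB.1 h
  refine (hB.mem_iff m hsub hr).2 ?_
  by_contra h0
  have hmem' : r * q ∈ Ideal.span B := by
    have h1 := sub_mem hmem (Ideal.mul_mem_right q _ hsub)
    rwa [sub_mul, sub_sub_cancel] at h1
  have hdeg : m.degree (r * q) = m.degree r + m.degree q :=
    m.degree_mul_of_isRegular_right h0 hq.unit.isRegular
  have hne : r * q ≠ 0 := by
    rw [← m.leadingCoeff_ne_zero_iff, m.leadingCoeff_mul_of_isRegular_right hq.unit.isRegular,
      ne_eq, hq.unit.mul_left_eq_zero, m.leadingCoeff_eq_zero_iff]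
    exact h0
  obtain ⟨b, hb, hle⟩ := hB.2 _ hmem' hne
  exact hr h0 b hb (hq.le_of_le_add m hb (hdeg ▸ hle))

lemma IsGB.insert {B : Set (MvPolynomial σ A)} (hB : IsGB m B) {q : MvPolynomial σ A}
    (hq : Coprime m B q) : IsGB m (Insert.insert q B) := by
  refine ⟨fun b hb => ?_, fun f hf hf0 => ?_⟩
  · rcases hb with rfl | hb
    · exact hq.unit
    · exact hB.1 b hb
  obtain ⟨h, s, hs, rfl⟩ := Ideal.mem_span_insert.1 hf
  obtain ⟨r, hsub, hr⟩ := exists_reduced m hB.1 h
  set s' := (h - r) * q + s with hs'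
  have hs'mem : s' ∈ Ideal.span B := add_mem (Ideal.mul_mem_right q _ hsub) hs
  have heq : h * q + s = r * q + s' := by simp only [hs']; ring
  rw [heq] at hf0 ⊢
  by_cases hr0 : r = 0
  · subst hr0
    simp only [zero_mul, zero_add] at hf0 ⊢
    obtain ⟨b, hb, hle⟩ := hB.2 _ hs'mem hf0
    exact ⟨b, Set.mem_insert_of_mem _ hb, hle⟩
  have hdeg : m.degree (r * q) = m.degree r + m.degree q :=
    m.degree_mul_of_isRegular_right hr0 hq.unit.isRegular
  have hqle : m.degree q ≤ m.degree (r * q) := by rw [hdeg]; exact le_add_self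
  by_cases hs0 : s' = 0
  · rw [hs0, add_zero]
    exact ⟨q, Set.mem_insert _ _, hqle⟩
  obtain ⟨b, hb, hle⟩ := hB.2 _ hs'mem hs0
  have hne : m.degree (r * q) ≠ m.degree s' := fun e =>
    hr hr0 b hb (hq.le_of_le_add m hb (by rw [← hdeg, e]; exact hle))
  rcases lt_or_gt_of_ne (m.toSyn.injective.ne hne) with hlt | hlt
  · rw [m.degree_add_eq_right_of_lt hlt]
    exact ⟨b, Set.mem_insert_of_mem _ hb, hle⟩
  · rw [m.degree_add_of_lt hlt]
    exact ⟨q, Set.mem_insert _ _, hqle⟩

lemma IsGB.isPrime_of_forall_single {B : Set (MvPolynomial σ A)} [IsDomain A] (hB : IsGB m B)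
    (hlin : ∀ b ∈ B, ∃ s, m.degree b = Finsupp.single s 1) : (Ideal.span B).IsPrime := by
  refine ⟨?_, fun {f g} hfg => ?_⟩
  · intro htop
    have h1 : (1 : MvPolynomial σ A) ∈ Ideal.span B := htop ▸ Submodule.mem_top
    obtain ⟨b, hb, hle⟩ := hB.2 _ h1 one_ne_zero
    obtain ⟨s, hs⟩ := hlin b hb
    have h0 : m.degree (1 : MvPolynomial σ A) = 0 := by rw [← C_1]; exact m.degree_C _
    rw [hs, h0] at hle
    have := hle s
    simp at this
  obtain ⟨r, hr, hr'⟩ := exists_reduced m hB.1 f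
  obtain ⟨t, ht, ht'⟩ := exists_reduced m hB.1 g
  by_contra hcon
  rw [hB.mem_iff m hr hr', hB.mem_iff m ht ht', not_or] at hcon
  have hmem : r * t ∈ Ideal.span B := by
    have := sub_mem hfg (add_mem (Ideal.mul_mem_right g _ hr) (Ideal.mul_mem_left _ r ht))
    ring_nf at this
    exact this
  obtain ⟨b, hb, hle⟩ := hB.2 _ hmem (mul_ne_zero hcon.1 hcon.2)
  obtain ⟨s, hs⟩ := hlin b hb
  rw [m.degree_mul hcon.1 hcon.2, hs] at hle
  have h1 := hr' hcon.1 b hb
  have h2 := ht' hcon.2 b hb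
  rw [hs, Finsupp.single_le_iff] at h1 h2
  have := hle s
  simp only [Finsupp.single_eq_same, Finsupp.add_apply] at this
  omega

end Groth.Agent.Lie3Mod
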