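import Groth.Prelude.Def_W4c1bouilletffgsL3
import Groth.Agent.Lie3Mod.GB
import Mathlib.Data.Finsupp.MonomialOrder
import Mathlib.Tactic.FinCases

/-!
A monomial order for which the three Jacobi polynomials have pairwise disjoint leading monomials.
-/

namespace Groth.Agent.Lie3Mod

open MvPolynomial MonomialOrder _root_.Lie3Mod

/-- variable ↦ priority: g > e > c > a > b > d > f > h > i. -/
def prio : Fin 9 ≃ Fin 9 where
  toFun := ![3, 4, 2, 5, 1, 6, 0, 7, 8]
  invFun := ![6, 4, 2, 0, 1, 3, 5, 7, 8]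
  left_inv := by intro k; fin_cases k <;> rfl
  right_inv := by intro k; fin_cases k <;> rfl

/-- the monomial order -/
noncomputable def ord : MonomialOrder (Fin 9) where
  syn := Lex (Fin 9 →₀ ℕ)
  toSyn := (Finsupp.domCongr prio).trans MonomialOrder.lex.toSyn
  toSyn_monotone := by
    intro c d h
    exact Finsupp.toLex_monotone (fun k => h (prio.symm k))

lemma lt_of_first {c d : Fin 9 →₀ ℕ} (j : Fin 9)
    (h1 : ∀ k < j, c (prio.symm k) = d (prio.symm k)) (h2 : c (prio.symm j) < d (prio.symm j)) :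
    c ≺[ord] d :=
  ⟨j, h1, h2⟩

variable {A : Type*} [CommRing A]

/-- all monomials smaller than `d` -/
def Small (d : Fin 9 →₀ ℕ) (p : D A) : Prop := ∀ c ∈ p.support, c ≺[ord] d

lemma Small.add {d : Fin 9 →₀ ℕ} {p q : D A} (hp : Small d p) (hq : Small d q) :
    Small d (p + q) := fun c hc => by
  rcases Finset.mem_union.1 (MvPolynomial.support_add hc) with h | h
  exacts [hp c h, hq c h]

lemma Small.neg {d : Fin 9 →₀ ℕ} {p : D A} (hp : Small d p) : Small d (-p) := fun c hc =>
  hp c (by simpa using hc)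

lemma Small.sub {d : Fin 9 →₀ ℕ} {p q : D A} (hp : Small d p) (hq : Small d q) :
    Small d (p - q) := by rw [sub_eq_add_neg]; exact hp.add hq.neg

lemma small_monomial {d c : Fin 9 →₀ ℕ} (x : A) (h : c ≺[ord] d) :
    Small d (monomial c x) := fun c' hc' => by
  classical
  rw [Finset.mem_singleton.1 (support_monomial_subset hc')]; exact h

lemma lead_aux [Nontrivial A] {d : Fin 9 →₀ ℕ} {ε : A} (hε : IsUnit ε) {f p : D A}
    (hp : Small d p) (hf : f = monomial d ε + p) :
    ord.degree f = d ∧ IsUnit (ord.leadingCoeff f) := by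
  classical
  have hd : ord.degree (monomial d ε : D A) = d := by
    rw [ord.degree_monomial, if_neg hε.ne_zero]
  have hcoeff : f.coeff d = ε := by
    have : p.coeff d = 0 := notMem_support_iff.1 fun h => lt_irrefl _ (hp d h)
    simp [hf, this]
  have hdeg : ord.degree f = d := by
    apply ord.toSyn.injective
    refine le_antisymm (ord.degree_le_iff.2 fun c hc => ?_)
      (ord.le_degree (mem_support_iff.2 (hcoeff ▸ hε.ne_zero)))
    rw [hf] at hc
    rcases Finset.mem_union.1 (MvPolynomial.support_add hc) with h | h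
    · rw [Finset.mem_singleton.1 (support_monomial_subset h)]
    · exact (hp c h).le
  exact ⟨hdeg, by rw [MonomialOrder.leadingCoeff, hdeg, hcoeff]; exact hε⟩

/-- unit vector -/
noncomputable abbrev ev (k : Fin 9) : Fin 9 →₀ ℕ := Finsupp.single k 1

lemma X_eq (k : Fin 9) : (X k : D A) = monomial (ev k) 1 := rfl

macro "lex_cmp" j:num : tactic =>
  `(tactic| refine lt_of_first ($j : Fin 9) ?_ ?_ <;>
      simp +decide [Fin.forall_fin_succ, prio, Finsupp.single_apply])

variable (A) [Nontrivial A]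

lemma lead_Q1 : ord.degree (Q1 A) = ev 1 + ev 6 ∧ IsUnit (ord.leadingCoeff (Q1 A)) := by
  refine lead_aux (ε := -1) isUnit_one.neg
    (((small_monomial (1 : A) (c := ev 0 + ev 7) ?_).add
      (small_monomial (1 : A) (c := ev 3 + ev 8) ?_)).sub
        (small_monomial (1 : A) (c := ev 5 + ev 6) ?_)) ?_
  · lex_cmp 0
  · lex_cmp 0
  · lex_cmp 4
  · simp only [Q1, va, vb, vd, vf, vg, vh, vi, X_eq, monomial_mul, mul_one, map_neg]
    ring

lemma lead_Q2 : ord.degree (Q2 A) = ev 0 + ev 4 ∧ IsUnit (ord.leadingCoeff (Q2 A)) := by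
  refine lead_aux (ε := -1) isUnit_one.neg
    (((small_monomial (1 : A) (c := ev 8 + ev 4) ?_).add
      (small_monomial (1 : A) (c := ev 1 + ev 3) ?_)).sub
        (small_monomial (1 : A) (c := ev 5 + ev 7) ?_)) ?_
  · lex_cmp 3
  · lex_cmp 1
  · lex_cmp 1
  · simp only [Q2, va, vb, vd, ve, vf, vh, vi, X_eq, monomial_mul, mul_one, map_neg]
    ring

lemma lead_Q3 : ord.degree (Q3 A) = ev 3 + ev 2 ∧ IsUnit (ord.leadingCoeff (Q3 A)) := by
  refine lead_aux (ε := 1) isUnit_one
    (((small_monomial (1 : A) (c := ev 7 + ev 2) ?_).sub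
      (small_monomial (1 : A) (c := ev 0 + ev 5) ?_)).sub
        (small_monomial (1 : A) (c := ev 1 + ev 8) ?_)) ?_
  · lex_cmp 5
  · lex_cmp 2
  · lex_cmp 2
  · simp only [Q3, va, vb, vc, vd, vf, vh, vi, X_eq, monomial_mul, mul_one]
    ring

lemma lead_detM :
    ord.degree (detM A) = ev 6 + ev 4 + ev 2 ∧ IsUnit (ord.leadingCoeff (detM A)) := by
  refine lead_aux (ε := -1) isUnit_one.neg
    (((((small_monomial (1 : A) (c := ev 6 + ev 1 + ev 5) ?_).sub
      (small_monomial (1 : A) (c := ev 2 + ev 7 + ev 7) ?_)).add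
        (small_monomial (1 : A) (c := ev 4 + ev 8 + ev 8) ?_)).add
          (small_monomial (1 : A) (c := ev 7 + ev 1 + ev 8) ?_)).sub
            (small_monomial (1 : A) (c := ev 8 + ev 7 + ev 5) ?_)) ?_
  · lex_cmp 1
  · lex_cmp 0
  · lex_cmp 0
  · lex_cmp 0
  · lex_cmp 0
  · simp only [detM, vb, vc, ve, vf, vg, vh, vi, X_eq, pow_two, monomial_mul,
      mul_one, map_neg]
    simp only [add_assoc]
    abel

lemma lead_L1 : ord.degree (L1 A) = ev 0 ∧ IsUnit (ord.leadingCoeff (L1 A)) := by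
  refine lead_aux (ε := 1) isUnit_one (small_monomial (-1 : A) (c := ev 8) ?_) ?_
  · lex_cmp 3
  · simp only [L1, va, vi, X_eq, map_neg]; ring

lemma lead_L2 : ord.degree (L2 A) = ev 1 ∧ IsUnit (ord.leadingCoeff (L2 A)) := by
  refine lead_aux (ε := 1) isUnit_one (small_monomial (1 : A) (c := ev 5) ?_) ?_
  · lex_cmp 4
  · simp only [L2, vb, vf, X_eq]

lemma lead_L3 : ord.degree (L3 A) = ev 3 ∧ IsUnit (ord.leadingCoeff (L3 A)) := by
  refine lead_aux (ε := 1) isUnit_one (small_monomial (1 : A) (c := ev 7) ?_) ?_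
  · lex_cmp 5
  · simp only [L3, vd, vh, X_eq]

lemma isGB_I : IsGB ord ({Q1 A, Q2 A, Q3 A} : Set (D A)) := by
  have h3 : IsGB ord ({Q3 A} : Set (D A)) := by
    simpa using (isGB_empty ord (A := A)).insert ord (q := Q3 A)
      ⟨(lead_Q3 A).2, fun b hb => absurd hb (Set.notMem_empty b)⟩
  have h23 := h3.insert ord (q := Q2 A) ⟨(lead_Q2 A).2, by
    rintro b rfl s
    rw [(lead_Q2 A).1, (lead_Q3 A).1]
    fin_cases s <;> simp [Finsupp.single_apply]⟩
  exact h23.insert ord (q := Q1 A) ⟨(lead_Q1 A).2, by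
    rintro b (rfl | rfl) s <;>
    rw [(lead_Q1 A).1] <;> simp only [(lead_Q2 A).1, (lead_Q3 A).1] <;>
    fin_cases s <;> simp [Finsupp.single_apply]⟩

lemma isGB_L : IsGB ord ({L1 A, L2 A, L3 A} : Set (D A)) := by
  have h3 : IsGB ord ({L3 A} : Set (D A)) := by
    simpa using (isGB_empty ord (A := A)).insert ord (q := L3 A)
      ⟨(lead_L3 A).2, fun b hb => absurd hb (Set.notMem_empty b)⟩
  have h23 := h3.insert ord (q := L2 A) ⟨(lead_L2 A).2, by
    rintro b rfl s
    rw [(lead_L2 A).1, (lead_L3 A).1]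
    fin_cases s <;> simp [Finsupp.single_apply]⟩
  exact h23.insert ord (q := L1 A) ⟨(lead_L1 A).2, by
    rintro b (rfl | rfl) s <;>
    rw [(lead_L1 A).1] <;> simp only [(lead_L2 A).1, (lead_L3 A).1] <;>
    fin_cases s <;> simp [Finsupp.single_apply]⟩

end Groth.Agent.Lie3Mod
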