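import Groth.Agent.Lie3Mod.Lead
import Mathlib.Algebra.MvPolynomial.Eval
import Mathlib.Tactic.LinearCombination
import Mathlib.RingTheory.Localization.Away.Basic
import Mathlib.RingTheory.Ideal.Colon
import Mathlib.RingTheory.Ideal.MinimalPrime.Basic
import Mathlib.RingTheory.Ideal.Quotient.Operations

/-!
The Jacobi ideal `I`, its two components `L` and `J`.
-/

namespace Groth.Agent.Lie3Mod

open MvPolynomial MonomialOrder _root_.Lie3Mod

universe u

variable {A : Type u} [CommRing A]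

variable (A) in
/-- the chart ring: polynomials in u, v, w, g, c, i -/
abbrev R6 : Type u := MvPolynomial (Fin 6) A

variable (A) in
/-- chart with `u` inverted -/
abbrev K6 : Type u := Localization.Away (X 0 : R6 A)

/-- the inclusion of the chart ring -/
noncomputable abbrev ι6 : R6 A →+* K6 A := algebraMap (R6 A) (K6 A)

/-- inverse of u -/
noncomputable abbrev iu : K6 A := IsLocalization.Away.invSelf (X 0 : R6 A)

lemma u_mul_iu : ι6 (X 0 : R6 A) * iu = 1 :=
  IsLocalization.Away.mul_invSelf _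

/-- value of h -/
noncomputable abbrev hVal : K6 A := (ι6 (X 3) * ι6 (X 1) - ι6 (X 5) * ι6 (X 2)) * iu
/-- value of f -/
noncomputable abbrev fVal : K6 A := (ι6 (X 4) * ι6 (X 2) - ι6 (X 5) * ι6 (X 1)) * iu

/-- the chart map -/
noncomputable def chart : D A →ₐ[A] K6 A :=
  MvPolynomial.aeval ![ι6 (X 0) + ι6 (X 5), ι6 (X 1) - fVal, ι6 (X 4), ι6 (X 2) - hVal,
    ((ι6 (X 1) - fVal) * ι6 (X 2) - hVal * ι6 (X 1)) * iu, fVal, ι6 (X 3), hVal, ι6 (X 5)]

/-- the section of the chart -/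
noncomputable def sec : R6 A →ₐ[A] D A :=
  MvPolynomial.aeval ![L1 A, L2 A, L3 A, vg, vc, vi]

lemma chart_L1 : chart (L1 A) = ι6 (X 0) := by
  simp [chart, L1, va, vi]

lemma chart_L2 : chart (L2 A) = ι6 (X 1) := by
  simp [chart, L2, vb, vf]

lemma chart_L3 : chart (L3 A) = ι6 (X 2) := by
  simp [chart, L3, vd, vh]

lemma chart_Q1 : chart (Q1 A) = 0 := by
  have h := u_mul_iu (A := A)
  simp [chart, Q1, va, vb, vd, vf, vg, vh, vi]
  linear_combination (ι6 (X 3) * ι6 (X 1) - ι6 (X 5) * ι6 (X 2) : K6 A) * h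

lemma chart_Q2 : chart (Q2 A) = 0 := by
  have h := u_mul_iu (A := A)
  simp [chart, Q2, va, vb, vd, ve, vf, vh, vi]
  linear_combination
    -((ι6 (X 1) - fVal) * ι6 (X 2) - hVal * ι6 (X 1) : K6 A) * h

lemma chart_Q3 : chart (Q3 A) = 0 := by
  have h := u_mul_iu (A := A)
  simp [chart, Q3, va, vb, vc, vd, vf, vh, vi]
  linear_combination -(ι6 (X 4) * ι6 (X 2) - ι6 (X 5) * ι6 (X 1) : K6 A) * h

lemma chart_sec (F : R6 A) : chart (sec F) = ι6 F := by
  have : (chart (A := A)).comp (sec (A := A)) = IsScalarTower.toAlgHom A (R6 A) (K6 A) := by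
    refine MvPolynomial.algHom_ext fun k => ?_
    rw [AlgHom.comp_apply]
    fin_cases k <;>
      simp [sec, chart_L1, chart_L2, chart_L3] <;> simp [chart, vg, vc, vi]
  exact DFunLike.congr_fun this F

lemma X_nzd (k : Fin 6) : (X k : R6 A) ∈ nonZeroDivisors (R6 A) :=
  isRegular_iff_mem_nonZeroDivisors.1 isRegular_X

lemma ι6_injective : Function.Injective (ι6 (A := A)) := by
  refine IsLocalization.injective (K6 A) (M := Submonoid.powers (X 0 : R6 A)) ?_
  rintro x ⟨n, rfl⟩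
  exact pow_mem (X_nzd 0) n

lemma idI_le_ker_chart : idI A ≤ RingHom.ker (chart (A := A)) := by
  rw [idI, Ideal.span_le]
  rintro x (rfl | rfl | rfl)
  exacts [chart_Q1, chart_Q2, chart_Q3]

lemma Q1_mem : Q1 A ∈ idI A := Ideal.subset_span (by simp)
lemma Q2_mem : Q2 A ∈ idI A := Ideal.subset_span (by simp)
lemma Q3_mem : Q3 A ∈ idI A := Ideal.subset_span (by simp)

lemma idI_le_idJ : idI A ≤ idJ A :=
  Ideal.span_mono (by simp [Set.insert_subset_iff])

lemma idI_le_idL : idI A ≤ idL A := by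
  rw [idI, Ideal.span_le]
  have h1 : L1 A ∈ idL A := Ideal.subset_span (by simp)
  have h2 : L2 A ∈ idL A := Ideal.subset_span (by simp)
  have h3 : L3 A ∈ idL A := Ideal.subset_span (by simp)
  rintro x (rfl | rfl | rfl)
  · have : Q1 A = vh * L1 A - vg * L2 A + vi * L3 A := by simp only [Q1, L1, L2, L3]; ring
    rw [SetLike.mem_coe, this]
    exact add_mem (sub_mem (Ideal.mul_mem_left _ _ h1) (Ideal.mul_mem_left _ _ h2))
      (Ideal.mul_mem_left _ _ h3)
  · have : Q2 A = vb * L3 A - ve * L1 A - vh * L2 A := by simp only [Q2, L1, L2, L3]; ring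
    rw [SetLike.mem_coe, this]
    exact sub_mem (sub_mem (Ideal.mul_mem_left _ _ h3) (Ideal.mul_mem_left _ _ h1))
      (Ideal.mul_mem_left _ _ h2)
  · have : Q3 A = vc * L3 A - vf * L1 A - vi * L2 A := by simp only [Q3, L1, L2, L3]; ring
    rw [SetLike.mem_coe, this]
    exact sub_mem (sub_mem (Ideal.mul_mem_left _ _ h3) (Ideal.mul_mem_left _ _ h1))
      (Ideal.mul_mem_left _ _ h2)

lemma detM_mul_L1 : detM A * L1 A ∈ idI A := by
  have : detM A * L1 A
      = (vb * vi - vh * vc) * Q1 A + (vg * vc - vi * vi) * Q2 A + (vi * vh - vg * vb) * Q3 A := by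
    simp only [detM, L1, Q1, Q2, Q3]; ring
  rw [this]
  exact add_mem (add_mem (Ideal.mul_mem_left _ _ Q1_mem) (Ideal.mul_mem_left _ _ Q2_mem))
    (Ideal.mul_mem_left _ _ Q3_mem)

lemma detM_mul_L2 : detM A * L2 A ∈ idI A := by
  have : detM A * L2 A
      = (ve * vc - vb * vf) * Q1 A + (vh * vc + vi * vf) * Q2 A - (vh * vb + ve * vi) * Q3 A := by
    simp only [detM, L2, Q1, Q2, Q3]; ring
  rw [this]
  exact sub_mem (add_mem (Ideal.mul_mem_left _ _ Q1_mem) (Ideal.mul_mem_left _ _ Q2_mem))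
    (Ideal.mul_mem_left _ _ Q3_mem)

lemma detM_mul_L3 : detM A * L3 A ∈ idI A := by
  have : detM A * L3 A
      = (ve * vi - vh * vf) * Q1 A + (vh * vi + vg * vf) * Q2 A
        - (vh * vh + vg * ve) * Q3 A := by
    simp only [detM, L3, Q1, Q2, Q3]; ring
  rw [this]
  exact sub_mem (add_mem (Ideal.mul_mem_left _ _ Q1_mem) (Ideal.mul_mem_left _ _ Q2_mem))
    (Ideal.mul_mem_left _ _ Q3_mem)

lemma detM_mul_mem {l : D A} (hl : l ∈ idL A) : detM A * l ∈ idI A := by
  induction hl using Submodule.span_induction with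
  | mem x hx =>
    rcases hx with rfl | rfl | rfl
    exacts [detM_mul_L1, detM_mul_L2, detM_mul_L3]
  | zero => simp
  | add x y _ _ hx hy => rw [mul_add]; exact add_mem hx hy
  | smul r x _ hx => rw [smul_eq_mul, mul_left_comm]; exact Ideal.mul_mem_left _ _ hx

/-- every element is, after multiplying by a power of L1, in the image of the section mod I -/
lemma exists_sec (f : D A) : ∃ (n : ℕ) (F : R6 A), L1 A ^ n * f - sec F ∈ idI A := by
  induction f using MvPolynomial.induction_on with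
  | C r => exact ⟨0, C r, by simp [sec]⟩
  | add p q hp hq =>
    obtain ⟨n, F, hF⟩ := hp
    obtain ⟨k, G, hG⟩ := hq
    refine ⟨n + k, X 0 ^ k * F + X 0 ^ n * G, ?_⟩
    have hsec : sec (X 0 : R6 A) = L1 A := by simp [sec]
    have := add_mem (Ideal.mul_mem_left _ (L1 A ^ k) hF) (Ideal.mul_mem_left _ (L1 A ^ n) hG)
    convert this using 1
    simp only [map_add, map_mul, map_pow, hsec]
    ring
  | mul_X p k hp =>
    obtain ⟨n, F, hF⟩ := hp
    suffices ∃ (n' : ℕ) (G : R6 A), L1 A ^ n' * X k - sec G ∈ idI A by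
      obtain ⟨n', G, hG⟩ := this
      refine ⟨n + n', F * G, ?_⟩
      have := add_mem (Ideal.mul_mem_left _ (L1 A ^ n' * X k) hF)
        (Ideal.mul_mem_left _ (sec F) hG)
      convert this using 1
      simp only [map_mul]
      ring
    fin_cases k
    · refine ⟨0, X 0 + X 5, ?_⟩
      convert zero_mem (idI A) using 1
      simp [sec, L1, va, vi]
    · refine ⟨1, X 0 * X 1 - (X 4 * X 2 - X 5 * X 1), ?_⟩
      convert Q3_mem (A := A) using 1
      simp [sec, L1, L2, L3, Q3, va, vb, vc, vd, vf, vh, vi]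
      ring
    · refine ⟨0, X 4, ?_⟩
      convert zero_mem (idI A) using 1
      simp [sec, vc]
    · refine ⟨1, X 0 * X 2 - (X 3 * X 1 - X 5 * X 2), ?_⟩
      convert neg_mem (Q1_mem (A := A)) using 1
      simp [sec, L1, L2, L3, Q1, va, vb, vd, vf, vg, vh, vi]
      ring
    · refine ⟨2, (X 0 * X 1 - (X 4 * X 2 - X 5 * X 1)) * X 2
        - (X 3 * X 1 - X 5 * X 2) * X 1, ?_⟩
      convert sub_mem (sub_mem (Ideal.mul_mem_left _ (L3 A) (Q3_mem (A := A)))
        (Ideal.mul_mem_left _ (L2 A) (Q1_mem (A := A))))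
        (Ideal.mul_mem_left _ (L1 A) (Q2_mem (A := A))) using 1
      simp [sec, L1, L2, L3, Q1, Q2, Q3, va, vb, vc, vd, ve, vf, vg, vh, vi]
      ring
    · refine ⟨1, X 4 * X 2 - X 5 * X 1, ?_⟩
      convert neg_mem (Q3_mem (A := A)) using 1
      simp [sec, L1, L2, L3, Q3, va, vb, vc, vd, vf, vh, vi]
      ring
    · refine ⟨0, X 3, ?_⟩
      convert zero_mem (idI A) using 1
      simp [sec, vg]
    · refine ⟨1, X 3 * X 1 - X 5 * X 2, ?_⟩
      convert Q1_mem (A := A) using 1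
      simp [sec, L1, L2, L3, Q1, va, vb, vd, vf, vg, vh, vi]
      ring
    · refine ⟨0, X 5, ?_⟩
      convert zero_mem (idI A) using 1
      simp [sec, vi]

lemma mem_ker_chart_iff {f : D A} : chart f = 0 ↔ ∃ n : ℕ, L1 A ^ n * f ∈ idI A := by
  constructor
  · intro hf
    obtain ⟨n, F, hF⟩ := exists_sec f
    have h0 : chart (L1 A ^ n * f - sec F) = 0 := idI_le_ker_chart hF
    rw [map_sub, map_mul, hf, mul_zero, chart_sec, zero_sub, neg_eq_zero] at h0
    have hF0 : F = 0 := ι6_injective (by rw [h0, map_zero])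
    exact ⟨n, by simpa [hF0] using hF⟩
  · rintro ⟨n, hn⟩
    have h0 : chart (L1 A ^ n * f) = 0 := idI_le_ker_chart hn
    rw [map_mul, map_pow, chart_L1] at h0
    exact ((IsLocalization.Away.algebraMap_isUnit (X 0 : R6 A)).pow n).mul_right_eq_zero.1 h0

lemma chart_eq_zero_of_L2 {f : D A} {n : ℕ} (hn : L2 A ^ n * f ∈ idI A) : chart f = 0 := by
  have h0 : chart (L2 A ^ n * f) = 0 := idI_le_ker_chart hn
  rw [map_mul, map_pow, chart_L2] at h0
  obtain ⟨⟨r, s⟩, hrs⟩ := IsLocalization.surj (Submonoid.powers (X 0 : R6 A)) (chart f)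
  have : ι6 ((X 1 : R6 A) ^ n * r) = 0 := by
    rw [map_mul, map_pow, ← hrs, ← mul_assoc, h0, zero_mul]
  have hr : (X 1 : R6 A) ^ n * r = 0 := ι6_injective (by rw [this, map_zero])
  have hr0 : r = 0 := (pow_mem (X_nzd _) n).1 _ hr
  rw [hr0, map_zero] at hrs
  exact (IsLocalization.map_units (K6 A) s).mul_left_eq_zero.1 hrs

lemma chart_eq_zero_of_L3 {f : D A} {n : ℕ} (hn : L3 A ^ n * f ∈ idI A) : chart f = 0 := by
  have h0 : chart (L3 A ^ n * f) = 0 := idI_le_ker_chart hn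
  rw [map_mul, map_pow, chart_L3] at h0
  obtain ⟨⟨r, s⟩, hrs⟩ := IsLocalization.surj (Submonoid.powers (X 0 : R6 A)) (chart f)
  have : ι6 ((X 2 : R6 A) ^ n * r) = 0 := by
    rw [map_mul, map_pow, ← hrs, ← mul_assoc, h0, zero_mul]
  have hr : (X 2 : R6 A) ^ n * r = 0 := ι6_injective (by rw [this, map_zero])
  have hr0 : r = 0 := (pow_mem (X_nzd _) n).1 _ hr
  rw [hr0, map_zero] at hrs
  exact (IsLocalization.map_units (K6 A) s).mul_left_eq_zero.1 hrs

/-- exchange of the first two basis vectors -/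
noncomputable def swap12 : D A →ₐ[A] D A :=
  MvPolynomial.aeval ![-vb, -va, -vc, vh, vg, vi, ve, vd, vf]

/-- exchange of the last two basis vectors -/
noncomputable def swap23 : D A →ₐ[A] D A :=
  MvPolynomial.aeval ![vd, vf, ve, va, vc, vb, -vg, -vi, -vh]

lemma swap12_swap12 (f : D A) : swap12 (swap12 f) = f := by
  have : (swap12 (A := A)).comp swap12 = AlgHom.id A (D A) := by
    refine MvPolynomial.algHom_ext fun k => ?_
    rw [AlgHom.comp_apply]
    fin_cases k <;> simp [swap12, va, vb, vc, vd, ve, vf, vg, vh, vi]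
  exact DFunLike.congr_fun this f

lemma swap23_swap23 (f : D A) : swap23 (swap23 f) = f := by
  have : (swap23 (A := A)).comp swap23 = AlgHom.id A (D A) := by
    refine MvPolynomial.algHom_ext fun k => ?_
    rw [AlgHom.comp_apply]
    fin_cases k <;> simp [swap23, va, vb, vc, vd, ve, vf, vg, vh, vi]
  exact DFunLike.congr_fun this f

lemma swap12_Q : swap12 (Q1 A) = -Q2 A ∧ swap12 (Q2 A) = -Q1 A ∧ swap12 (Q3 A) = -Q3 A := by
  refine ⟨?_, ?_, ?_⟩ <;> simp [swap12, Q1, Q2, Q3, va, vb, vc, vd, ve, vf, vg, vh, vi] <;> ring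

lemma swap23_Q : swap23 (Q1 A) = -Q1 A ∧ swap23 (Q2 A) = -Q3 A ∧ swap23 (Q3 A) = -Q2 A := by
  refine ⟨?_, ?_, ?_⟩ <;> simp [swap23, Q1, Q2, Q3, va, vb, vc, vd, ve, vf, vg, vh, vi] <;> ring

lemma swap12_idI {f : D A} (hf : f ∈ idI A) : swap12 f ∈ idI A := by
  suffices h : idI A ≤ Ideal.comap (swap12 (A := A)) (idI A) from h hf
  rw [idI, Ideal.span_le]
  rintro x (rfl | rfl | rfl) <;> rw [SetLike.mem_coe, Ideal.mem_comap]
  · rw [swap12_Q.1]; exact neg_mem Q2_mem
  · rw [swap12_Q.2.1]; exact neg_mem Q1_mem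
  · rw [swap12_Q.2.2]; exact neg_mem Q3_mem

lemma swap23_idI {f : D A} (hf : f ∈ idI A) : swap23 f ∈ idI A := by
  suffices h : idI A ≤ Ideal.comap (swap23 (A := A)) (idI A) from h hf
  rw [idI, Ideal.span_le]
  rintro x (rfl | rfl | rfl) <;> rw [SetLike.mem_coe, Ideal.mem_comap]
  · rw [swap23_Q.1]; exact neg_mem Q1_mem
  · rw [swap23_Q.2.1]; exact neg_mem Q3_mem
  · rw [swap23_Q.2.2]; exact neg_mem Q2_mem

lemma swap12_L2 : swap12 (L2 A) = -L1 A := by
  simp [swap12, L1, L2, va, vb, vf, vi]; ring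

lemma swap12_L1 : swap12 (L1 A) = -L2 A := by
  simp [swap12, L1, L2, va, vb, vf, vi]; ring

lemma swap23_L1 : swap23 (L1 A) = L3 A := by
  simp [swap23, L1, L3, va, vd, vh, vi]

lemma exists_L2_pow {f : D A} (hf : chart f = 0) : ∃ n : ℕ, L2 A ^ n * f ∈ idI A := by
  obtain ⟨n, hn⟩ := mem_ker_chart_iff.1 hf
  have h := swap12_idI hn
  rw [map_mul, map_pow, swap12_L1, neg_pow, mul_assoc] at h
  have h2 : L2 A ^ n * swap12 f ∈ idI A := by
    have := Ideal.mul_mem_left _ ((-1) ^ n) h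
    rwa [← mul_assoc, ← mul_pow, neg_one_mul, neg_neg, one_pow, one_mul] at this
  obtain ⟨k, hk⟩ := mem_ker_chart_iff.1 (chart_eq_zero_of_L2 h2)
  have h3 := swap12_idI hk
  rw [map_mul, map_pow, swap12_L1, swap12_swap12, neg_pow, mul_assoc] at h3
  refine ⟨k, ?_⟩
  have := Ideal.mul_mem_left _ ((-1) ^ k) h3
  rwa [← mul_assoc, ← mul_pow, neg_one_mul, neg_neg, one_pow, one_mul] at this

lemma exists_L3_pow {f : D A} (hf : chart f = 0) : ∃ n : ℕ, L3 A ^ n * f ∈ idI A := by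
  obtain ⟨n, hn⟩ := mem_ker_chart_iff.1 hf
  have h := swap23_idI hn
  rw [map_mul, map_pow, swap23_L1] at h
  obtain ⟨k, hk⟩ := mem_ker_chart_iff.1 (chart_eq_zero_of_L3 h)
  have h3 := swap23_idI hk
  rw [map_mul, map_pow, swap23_L1, swap23_swap23] at h3
  exact ⟨k, h3⟩

variable (A) in
lemma chart_detM : chart (detM A) = 0 :=
  mem_ker_chart_iff.2 ⟨1, by rw [pow_one, mul_comm]; exact detM_mul_L1⟩

/-- **The ideal `J` is the kernel of the chart.** -/
theorem idJ_eq_ker : idJ A = RingHom.ker (chart (A := A)) := by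
  refine le_antisymm ?_ fun f hf => ?_
  · rw [idJ, Ideal.span_le]
    rintro x (rfl | rfl | rfl | rfl)
    exacts [chart_Q1, chart_Q2, chart_Q3, chart_detM A]
  rcases subsingleton_or_nontrivial A with hA | hA
  · rw [Subsingleton.elim f 0]; exact zero_mem _
  have hu : ∀ b ∈ ({Q1 A, Q2 A, Q3 A, detM A} : Set (D A)), IsUnit (ord.leadingCoeff b) := by
    rintro b (rfl | rfl | rfl | rfl)
    exacts [(lead_Q1 A).2, (lead_Q2 A).2, (lead_Q3 A).2, (lead_detM A).2]
  obtain ⟨r, hsub, hr⟩ := exists_reduced ord hu f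
  suffices h0 : r = 0 by rwa [h0, sub_zero] at hsub
  by_contra h0
  have hrker : chart r = 0 := by
    have h1 : chart (f - r) = 0 := by
      refine (?_ : idJ A ≤ RingHom.ker (chart (A := A))) hsub
      rw [idJ, Ideal.span_le]
      rintro x (rfl | rfl | rfl | rfl)
      exacts [chart_Q1, chart_Q2, chart_Q3, chart_detM A]
    rwa [map_sub, (RingHom.mem_ker.1 hf : chart f = 0), zero_sub, neg_eq_zero] at h1
  have key : ∀ (l : D A) (n : ℕ) (k : Fin 9), ord.degree l = ev k →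
      IsUnit (ord.leadingCoeff l) → l ^ n * r ∈ idI A →
      ∃ b ∈ ({Q1 A, Q2 A, Q3 A} : Set (D A)),
        ord.degree b ≤ n • ev k + ord.degree r := by
    intro l n k hdeg hlu hmem
    have hpu : IsUnit (ord.leadingCoeff l ^ n) := hlu.pow n
    have hdp : ord.degree (l ^ n) = n • ev k := by
      rw [ord.degree_pow_of_pow_leadingCoeff_ne_zero hpu.ne_zero, hdeg]
    have hlp : IsUnit (ord.leadingCoeff (l ^ n)) := by
      rw [ord.leadingCoeff_pow_of_pow_leadingCoeff_ne_zero hpu.ne_zero]; exact hpu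
    have hne : l ^ n * r ≠ 0 := by
      rw [← ord.leadingCoeff_ne_zero_iff, ord.leadingCoeff_mul_of_isRegular_left hlp.isRegular,
        ne_eq, hlp.mul_right_eq_zero, ord.leadingCoeff_eq_zero_iff]
      exact h0
    obtain ⟨b, hb, hle⟩ := (isGB_I A).2 _ hmem hne
    rw [ord.degree_mul_of_isRegular_left hlp.isRegular h0, hdp] at hle
    exact ⟨b, hb, hle⟩
  set c := ord.degree r with hc
  have n1 := hr h0 (Q1 A) (by simp)
  have n2 := hr h0 (Q2 A) (by simp)
  have n3 := hr h0 (Q3 A) (by simp)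
  have n4 := hr h0 (detM A) (by simp)
  rw [(lead_Q1 A).1] at n1
  rw [(lead_Q2 A).1] at n2
  rw [(lead_Q3 A).1] at n3
  rw [(lead_detM A).1] at n4
  have c1 : ¬ (1 ≤ c 1 ∧ 1 ≤ c 6) := fun h => n1 fun s => by
    fin_cases s <;> simp [Finsupp.single_apply, h.1, h.2]
  have c2 : ¬ (1 ≤ c 0 ∧ 1 ≤ c 4) := fun h => n2 fun s => by
    fin_cases s <;> simp [Finsupp.single_apply, h.1, h.2]
  have c3 : ¬ (1 ≤ c 3 ∧ 1 ≤ c 2) := fun h => n3 fun s => by
    fin_cases s <;> simp [Finsupp.single_apply, h.1, h.2]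
  have c4 : ¬ (1 ≤ c 6 ∧ 1 ≤ c 4 ∧ 1 ≤ c 2) := fun h => n4 fun s => by
    fin_cases s <;> simp [Finsupp.single_apply, h.1, h.2.1, h.2.2]
  have split : ∀ (n : ℕ) (k : Fin 9), (∃ b ∈ ({Q1 A, Q2 A, Q3 A} : Set (D A)),
        ord.degree b ≤ n • ev k + c) →
      (1 ≤ Finsupp.single k n 1 + c 1 ∧ 1 ≤ Finsupp.single k n 6 + c 6) ∨
      (1 ≤ Finsupp.single k n 0 + c 0 ∧ 1 ≤ Finsupp.single k n 4 + c 4) ∨
      (1 ≤ Finsupp.single k n 3 + c 3 ∧ 1 ≤ Finsupp.single k n 2 + c 2) := by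
    rintro n k ⟨b, rfl | rfl | rfl, hle⟩
    · left
      rw [(lead_Q1 A).1] at hle
      exact ⟨by simpa using hle 1, by simpa using hle 6⟩
    · right; left
      rw [(lead_Q2 A).1] at hle
      exact ⟨by simpa using hle 0, by simpa using hle 4⟩
    · right; right
      rw [(lead_Q3 A).1] at hle
      exact ⟨by simpa using hle 3, by simpa using hle 2⟩
  obtain ⟨na, hna⟩ := mem_ker_chart_iff.1 hrker
  obtain ⟨nb, hnb⟩ := exists_L2_pow hrker
  obtain ⟨nd, hnd⟩ := exists_L3_pow hrker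
  have e1 := split _ _ (key _ _ 0 (lead_L1 A).1 (lead_L1 A).2 hna)
  have e2 := split _ _ (key _ _ 1 (lead_L2 A).1 (lead_L2 A).2 hnb)
  have e3 := split _ _ (key _ _ 3 (lead_L3 A).1 (lead_L3 A).2 hnd)
  simp +decide [Finsupp.single_apply] at e1 e2 e3
  omega

theorem mem_idJ_of_L1_mul {f : D A} (h : L1 A * f ∈ idI A) : f ∈ idJ A := by
  rw [idJ_eq_ker]
  exact mem_ker_chart_iff.2 ⟨1, by rwa [pow_one]⟩

theorem colon_idL : (idI A).colon (idL A : Set (D A)) = idJ A := by
  ext f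
  rw [Submodule.mem_colon]
  constructor
  · intro h
    refine mem_idJ_of_L1_mul ?_
    rw [mul_comm]
    exact h (L1 A) (Ideal.subset_span (by simp))
  · intro hf p hp
    rw [smul_eq_mul]
    induction hf using Submodule.span_induction with
    | mem x hx =>
      rcases hx with rfl | rfl | rfl | rfl
      · exact Ideal.mul_mem_right _ _ Q1_mem
      · exact Ideal.mul_mem_right _ _ Q2_mem
      · exact Ideal.mul_mem_right _ _ Q3_mem
      · exact detM_mul_mem hp
    | zero => simp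
    | add x y _ _ hx hy => rw [add_mul]; exact add_mem hx hy
    | smul r x _ hx => rw [smul_eq_mul, mul_assoc]; exact Ideal.mul_mem_left _ _ hx

theorem mem_idL_of_mul_detM {f : D A} (h : f * detM A ∈ idL A) : f ∈ idL A := by
  rcases subsingleton_or_nontrivial A with hA | hA
  · rw [Subsingleton.elim f 0]; exact zero_mem _
  refine (isGB_L A).mem_of_mul_mem ord ⟨(lead_detM A).2, ?_⟩ h
  rintro b (rfl | rfl | rfl) s <;> rw [(lead_detM A).1] <;>
    simp only [(lead_L1 A).1, (lead_L2 A).1, (lead_L3 A).1] <;>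
    fin_cases s <;> simp [Finsupp.single_apply]

theorem colon_idJ : (idI A).colon (idJ A : Set (D A)) = idL A := by
  ext f
  rw [Submodule.mem_colon]
  constructor
  · intro h
    exact mem_idL_of_mul_detM (idI_le_idL (h (detM A) (Ideal.subset_span (by simp))))
  · intro hf p hp
    have h2 : p ∈ (idI A).colon (idL A : Set (D A)) := by rw [colon_idL]; exact hp
    rw [Submodule.mem_colon] at h2
    rw [smul_eq_mul, mul_comm]
    exact h2 f hf

theorem idI_eq_inf : idI A = idJ A ⊓ idL A := by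
  refine le_antisymm (le_inf idI_le_idJ idI_le_idL) fun f ⟨hJ, hL⟩ => ?_
  have hJ' : f ∈ Ideal.span (insert (detM A) ({Q1 A, Q2 A, Q3 A} : Set (D A))) := by
    have he : (insert (detM A) ({Q1 A, Q2 A, Q3 A} : Set (D A)))
        = {Q1 A, Q2 A, Q3 A, detM A} := by
      rw [Set.insert_comm, Set.insert_comm (detM A), Set.pair_comm (detM A)]
    rw [he]; exact hJ
  obtain ⟨g, i, hi, rfl⟩ := Ideal.mem_span_insert.1 hJ'
  have hgL : g * detM A ∈ idL A := by
    have h' := sub_mem (SetLike.mem_coe.1 hL) (idI_le_idL (show i ∈ idI A from hi))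
    rwa [add_sub_cancel_right] at h'
  refine add_mem ?_ hi
  rw [mul_comm]
  exact detM_mul_mem (mem_idL_of_mul_detM hgL)

theorem idJ_isPrime [IsDomain A] : (idJ A).IsPrime := by
  haveI : IsDomain (K6 A) :=
    IsLocalization.isDomain_localization
      (powers_le_nonZeroDivisors_of_noZeroDivisors (X_ne_zero 0))
  rw [idJ_eq_ker]
  exact RingHom.ker_isPrime _

theorem idL_isPrime [IsDomain A] : (idL A).IsPrime :=
  (isGB_L A).isPrime_of_forall_single ord (by
    rintro b (rfl | rfl | rfl)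
    exacts [⟨_, (lead_L1 A).1⟩, ⟨_, (lead_L2 A).1⟩, ⟨_, (lead_L3 A).1⟩])

theorem L1_notMem_idJ [Nontrivial A] : L1 A ∉ idJ A := by
  rw [idJ_eq_ker, RingHom.mem_ker, chart_L1]
  exact fun h => X_ne_zero (R := A) (0 : Fin 6) (ι6_injective (by rw [h, map_zero]))

theorem detM_notMem_idL [Nontrivial A] : detM A ∉ idL A := fun h => by
  have h1 : (1 : D A) ∈ idL A := mem_idL_of_mul_detM (by rwa [one_mul])
  obtain ⟨b, hb, hle⟩ := (isGB_L A).2 _ h1 one_ne_zero
  rw [← C_1, ord.degree_C] at hle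
  rcases hb with rfl | rfl | rfl
  · rw [(lead_L1 A).1] at hle; simpa using hle 0
  · rw [(lead_L2 A).1] at hle; simpa using hle 1
  · rw [(lead_L3 A).1] at hle; simpa using hle 3

theorem idJ_mem_minimalPrimes [IsDomain A] : idJ A ∈ (idI A).minimalPrimes := by
  refine ⟨⟨idJ_isPrime, idI_le_idJ⟩, fun P ⟨hP, hIP⟩ hle => ?_⟩
  haveI := hP
  have hd : detM A ∈ P :=
    (hP.mem_or_mem (hIP detM_mul_L1)).resolve_right fun h => L1_notMem_idJ (hle h)
  rw [idJ, Ideal.span_le]
  rintro x (rfl | rfl | rfl | rfl)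
  exacts [hIP Q1_mem, hIP Q2_mem, hIP Q3_mem, hd]

theorem idL_mem_minimalPrimes [IsDomain A] : idL A ∈ (idI A).minimalPrimes := by
  refine ⟨⟨idL_isPrime, idI_le_idL⟩, fun P ⟨hP, hIP⟩ hle => ?_⟩
  haveI := hP
  have hd : detM A ∉ P := fun h => detM_notMem_idL (hle h)
  rw [idL, Ideal.span_le]
  rintro x (rfl | rfl | rfl)
  exacts [(hP.mem_or_mem (hIP detM_mul_L1)).resolve_left hd,
    (hP.mem_or_mem (hIP detM_mul_L2)).resolve_left hd,
    (hP.mem_or_mem (hIP detM_mul_L3)).resolve_left hd]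

end Groth.Agent.Lie3Mod
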